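import Groth.Agent.Lib.TwistCover
import Groth.Agent.AmpleVan.Pull
import Groth.Prelude.Def_CohB1

/-!
# Twists on quasi-compact opens of a `Proj`
-/

universe u

open CategoryTheory AlgebraicGeometry TopologicalSpace Opposite

set_option backward.isDefEq.respectTransparency false
set_option backward.isDefEq.respectTransparency.types false
set_option linter.style.haveILetI false

namespace Groth.Agent.H1TwistOpen

open Groth.Agent

variable {R A : Type u} [CommRing R] [CommRing A] [Algebra R A]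
  {𝒜 : ℕ → Submodule R A} [GradedAlgebra 𝒜]

theorem exists_mem_basicOpen (y : Proj 𝒜) :
    ∃ n : ℕ, 0 < n ∧ ∃ g : 𝒜 n, y ∈ Proj.basicOpen 𝒜 (g : A) := by
  let c := Proj.affineOpenCover 𝒜
  obtain ⟨z, hz⟩ := c.covers y
  refine ⟨(c.idx y).1, (c.idx y).1.2, (c.idx y).2, ?_⟩
  rw [← Proj.opensRange_awayι 𝒜 ((c.idx y).2 : A) (c.idx y).2.2 (c.idx y).1.2]
  exact ⟨z, hz⟩

/-- `g'/1` invertible and a multiple of `g/1` forces `y ∈ D(g)`. -/
theorem basicOpen_coord_le {n : ℕ} (g g' : 𝒜 n) {W : (Proj 𝒜).Opens}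
    (hW : W ≤ Proj.basicOpen 𝒜 (g' : A))
    (c : Γ(Proj 𝒜, W))
    (hc : AModX.res (Twist.twist 𝒜 (n : ℤ)) (le_top : W ≤ ⊤) (Twist.globalOf 𝒜 g) =
      c • AModX.res (Twist.twist 𝒜 (n : ℤ)) (le_top : W ≤ ⊤) (Twist.globalOf 𝒜 g'))
    {x : Proj 𝒜} (hx : x ∈ (Proj 𝒜).basicOpen c) : x ∈ Proj.basicOpen 𝒜 (g : A) := by
  have hxW : x ∈ W := (Proj 𝒜).basicOpen_le c hx
  let V := (Proj 𝒜).basicOpen c
  have hu : IsUnit ((Proj 𝒜).presheaf.map (homOfLE ((Proj 𝒜).basicOpen_le c)).op c) :=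
    RingedSpace.isUnit_res_basicOpen _ c
  have hc' := congrArg (AModX.res (Twist.twist 𝒜 (n : ℤ)) ((Proj 𝒜).basicOpen_le c)) hc
  rw [AModX.res_res, AModX.res_smul, AModX.res_res] at hc'
  obtain ⟨w, hw⟩ := hu
  have h := congrArg (fun q => ((show Twist.sectN (𝒜 := 𝒜) (n : ℤ) (op V) from q).1 ⟨x, hx⟩).1) hc'
  have h' : (Localization.mk (g : A) 1 : Twist.Loc 𝒜 x) =
      ((show Twist.O (𝒜 := 𝒜) (op V) from (AModX.resR ((Proj 𝒜).basicOpen_le c) c)).1 ⟨x, hx⟩).val *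
        Localization.mk (g' : A) 1 :=
    h.trans (Twist.coe_smul_val (n : ℤ) x _ _)
  have hu' : IsUnit ((show Twist.O (𝒜 := 𝒜) (op V) from (AModX.resR ((Proj 𝒜).basicOpen_le c) c)).1 ⟨x, hx⟩).val := by
    refine IsUnit.of_mul_eq_one
      ((show Twist.O (𝒜 := 𝒜) (op V) from (↑w⁻¹ : Γ(Proj 𝒜, V))).1 ⟨x, hx⟩).val ?_
    have h1 : AModX.resR ((Proj 𝒜).basicOpen_le c) c * (↑w⁻¹ : Γ(Proj 𝒜, V)) = 1 := by
      rw [show AModX.resR ((Proj 𝒜).basicOpen_le c) c = (w : Γ(Proj 𝒜, V)) from hw.symm, Units.mul_inv]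
    have h2 := congrArg (fun q => ((show Twist.O (𝒜 := 𝒜) (op V) from q).1 ⟨x, hx⟩).val) h1
    exact ((HomogeneousLocalization.val_mul _ _).symm.trans h2).trans (HomogeneousLocalization.val_one)
  have hg' : IsUnit (Localization.mk (g' : A) 1 : Twist.Loc 𝒜 x) := by
    rw [Localization.mk_one_eq_algebraMap]
    exact (IsLocalization.AtPrime.isUnit_to_map_iff _ x.asHomogeneousIdeal.toIdeal _).2 (hW hxW)
  have hg : IsUnit (Localization.mk (g : A) 1 : Twist.Loc 𝒜 x) := h' ▸ hu'.mul hg'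
  rw [Localization.mk_one_eq_algebraMap] at hg
  exact (IsLocalization.AtPrime.isUnit_to_map_iff _ x.asHomogeneousIdeal.toIdeal _).1 hg

variable {n : ℕ} (U : (Proj 𝒜).Opens) (hU : ∀ x ∈ U, ∃ g : 𝒜 n, x ∈ Proj.basicOpen 𝒜 (g : A) ∧
  Proj.basicOpen 𝒜 (g : A) ≤ U)

/-- The restricted global section. -/
noncomputable def sec (g : 𝒜 n) : Γ((Scheme.Modules.pullback U.ι).obj (Twist.twist 𝒜 (n : ℤ)), ⊤) :=
  InvX.pullElt U.ι (U := ⊤) (show Γ(Twist.twist 𝒜 (n : ℤ), ⊤) from Twist.globalOf 𝒜 g)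

theorem isFrame_sec (g : 𝒜 n) :
    InvX.IsFrame (AModX.res _ (le_top : U.ι ⁻¹ᵁ Proj.basicOpen 𝒜 (g : A) ≤ ⊤) (sec U g)) := by
  rw [sec]
  have h := InvX.res_pullElt U.ι (le_top : Proj.basicOpen 𝒜 (g : A) ≤ ⊤)
    (show Γ(Twist.twist 𝒜 (n : ℤ), ⊤) from Twist.globalOf 𝒜 g)
  exact h.symm ▸ InvX.isFrame_pullElt U.ι (TwistX.isFrame_res_globalOf g.2 fun y => y.2)

include hU in
theorem isInvertible : PicF.IsInvertible ((Scheme.Modules.pullback U.ι).obj (Twist.twist 𝒜 (n : ℤ))) :=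
  InvX.isInvertible_of_frames fun y => by
    obtain ⟨g, hg, -⟩ := hU (U.ι y) y.2
    exact ⟨_, hg, _, isFrame_sec U g⟩

include hU in
theorem genLocus_sec (g : 𝒜 n) :
    CohB1.genLocus _ (InvX.ofSect (sec U g)) = U.ι ⁻¹ᵁ Proj.basicOpen 𝒜 (g : A) := by
  refine le_antisymm (fun y hy => ?_) (InvX.le_genLocus _ (by rw [InvX.one_ofSect]; exact isFrame_sec U g))
  obtain ⟨g', hg', -⟩ := hU (U.ι y) y.2
  have he := TwistX.isFrame_res_globalOf g'.2 (U := Proj.basicOpen 𝒜 (g' : A)) fun z => z.2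
  obtain ⟨c, hc⟩ := he.exists_coord le_rfl
    (AModX.res (Twist.twist 𝒜 (n : ℤ)) le_top (Twist.globalOf 𝒜 g))
  rw [AModX.res_self] at hc
  have hc2 : AModX.res _ (le_top : U.ι ⁻¹ᵁ Proj.basicOpen 𝒜 (g' : A) ≤ ⊤) (InvX.one (InvX.ofSect (sec U g))) =
      U.ι.app _ c • InvX.pullElt U.ι (AModX.res (Twist.twist 𝒜 (n : ℤ)) le_top (Twist.globalOf 𝒜 g')) := by
    rw [InvX.one_ofSect, ← InvX.pullElt_smul]
    exact (InvX.res_pullElt U.ι (le_top : Proj.basicOpen 𝒜 (g' : A) ≤ ⊤) _).trans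
      (congrArg (InvX.pullElt U.ι) hc)
  have h := InvX.genLocus_inf _ (InvX.isFrame_pullElt U.ι he) hc2
  have hy' : y ∈ U.toScheme.basicOpen (U.ι.app _ c) := h.le ⟨hy, hg'⟩
  rw [← Scheme.preimage_basicOpen] at hy'
  exact basicOpen_coord_le g g' le_rfl c hc hy'

include hU in
theorem isAmple [CompactSpace U] (hn : 0 < n) :
    CohB1.IsAmple ((Scheme.Modules.pullback U.ι).obj (Twist.twist 𝒜 (n : ℤ))) := by
  refine ⟨isInvertible U hU, inferInstance, fun y => ?_⟩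
  obtain ⟨g, hg, hgU⟩ := hU (U.ι y) y.2
  refine ⟨0, InvX.powHom (InvX.ofSect (sec U g)) 1, ?_⟩
  rw [InvX.genLocus_powHom (isInvertible U hU) _ 0, genLocus_sec U hU g]
  refine ⟨hg, ?_⟩
  rw [← U.ι.isAffineOpen_iff_of_isOpenImmersion, Scheme.Hom.image_preimage_eq_opensRange_inf,
    U.opensRange_ι, inf_eq_right.2 hgU]
  exact Proj.isAffineOpen_basicOpen 𝒜 (g : A) g.2 hn

omit [GradedAlgebra 𝒜] in
variable (𝒜) in
theorem pow_mem [GradedAlgebra 𝒜] {a b d : ℕ} {g : A} (hg : g ∈ 𝒜 a) (h : b * a = d) : g ^ b ∈ 𝒜 d := by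
  rw [← h, ← smul_eq_mul]; exact SetLike.pow_mem_graded b hg

theorem exists_isAmple {X : Scheme.{u}} [CompactSpace X] (j : X ⟶ Proj 𝒜) [IsOpenImmersion j] :
    ∃ d : ℕ, 0 < d ∧ CohB1.IsAmple ((Scheme.Modules.pullback j).obj (Twist.twist 𝒜 (d : ℤ))) := by
  classical
  choose m hm g hg using fun x : X => exists_mem_basicOpen (j x)
  obtain ⟨t, ht⟩ := (isCompact_univ (X := X)).elim_finite_subcover
    (fun x : X => ((j ⁻¹ᵁ Proj.basicOpen 𝒜 (g x : A) : X.Opens) : Set X)) (fun x => (j ⁻¹ᵁ _).2)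
    (fun x _ => Set.mem_iUnion.2 ⟨x, hg x⟩)
  let d := ∏ x ∈ t, m x
  have hd : 0 < d := Finset.prod_pos fun x _ => hm x
  let G : t → 𝒜 d := fun x => ⟨(g x : A) ^ (d / m x),
    pow_mem 𝒜 (g x.1).2 (Nat.div_mul_cancel (Finset.dvd_prod_of_mem m x.2))⟩
  have hG : ∀ x : t, Proj.basicOpen 𝒜 (G x : A) = Proj.basicOpen 𝒜 (g x.1 : A) := fun x =>
    Proj.basicOpen_pow 𝒜 _ _ (Nat.div_pos (Nat.le_of_dvd hd (Finset.dvd_prod_of_mem m x.2)) (hm x.1))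
  let U : (Proj 𝒜).Opens := ⨆ x : t, Proj.basicOpen 𝒜 (G x : A)
  have hU : ∀ y ∈ U, ∃ g : 𝒜 d, y ∈ Proj.basicOpen 𝒜 (g : A) ∧ Proj.basicOpen 𝒜 (g : A) ≤ U := by
    intro y hy
    obtain ⟨x, hx⟩ := Opens.mem_iSup.1 hy
    exact ⟨G x, hx, le_iSup (fun x : t => Proj.basicOpen 𝒜 (G x : A)) x⟩
  haveI : CompactSpace U := by
    refine isCompact_iff_compactSpace.1 ?_
    show IsCompact ((U : (Proj 𝒜).Opens) : Set (Proj 𝒜))
    rw [Opens.coe_iSup]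
    exact isCompact_iUnion fun x => (Proj.isAffineOpen_basicOpen 𝒜 (G x : A) (G x).2 hd).isCompact
  have hj : Set.range j ⊆ Set.range U.ι := by
    rw [Scheme.Opens.range_ι]
    rintro _ ⟨z, rfl⟩
    obtain ⟨x, hx, hz⟩ := Set.mem_iUnion₂.1 (ht (Set.mem_univ z))
    exact Opens.mem_iSup.2 ⟨⟨x, hx⟩, (hG ⟨x, hx⟩).ge hz⟩
  let f := IsOpenImmersion.lift U.ι j hj
  have hf : f ≫ U.ι = j := IsOpenImmersion.lift_fac _ _ _
  haveI : IsOpenImmersion f := by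
    haveI : IsOpenImmersion (f ≫ U.ι) := by rw [hf]; infer_instance
    exact IsOpenImmersion.of_comp f U.ι
  refine ⟨d, hd, ?_⟩
  have h := AmpleVan.isAmple_pullback_of_isEmbedding f f.isOpenEmbedding.isEmbedding (isAmple U hU hd)
  exact AmpleX.isAmple_of_iso
    (((Scheme.Modules.pullbackComp f U.ι).app _).trans ((Scheme.Modules.pullbackCongr hf).app _)) h

end Groth.Agent.H1TwistOpen
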